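import Groth.Agent.Lib.Helper75.ExtFunctoriality

/-!
# `Ext` along an exact functor with an exact retraction

If `Φ : 𝒜 ⥤ ℬ` and `Ψ : ℬ ⥤ 𝒜` are exact functors with `Φ ⋙ Ψ ≅ 𝟭`, then `Ext^n(Z, G)` is a
retract of `Ext^n(Φ Z, Φ G)` (and of `Ext^n(Z', G')` for `Z' ≅ Φ Z`, `G' ≅ Φ G`).
-/

universe w w' v v' u u'

open CategoryTheory Abelian Limits

namespace Groth.Agent.Lib.Helper36.DescSS

open Groth.Agent.Lib.Helper75.ExtFunctoriality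

variable {𝒜 : Type u} [Category.{v} 𝒜] [Abelian 𝒜] [HasExt.{w} 𝒜] [EnoughInjectives 𝒜]
  {ℬ : Type u'} [Category.{v'} ℬ] [Abelian ℬ] [HasExt.{w'} ℬ] [EnoughInjectives ℬ]
  (Φ : 𝒜 ⥤ ℬ) (Ψ : ℬ ⥤ 𝒜) [Φ.Additive] [PreservesFiniteLimits Φ] [PreservesFiniteColimits Φ]
  [Ψ.Additive] [PreservesFiniteLimits Ψ] [PreservesFiniteColimits Ψ]
  (e : Φ ⋙ Ψ ≅ 𝟭 𝒜)

/-- Conjugation of an `Ext`-class by morphisms. -/
noncomputable def extConj {X X' Y Y' : 𝒜} (a : X' ⟶ X) (b : Y ⟶ Y') (n : ℕ) :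
    Ext.{w} X Y n →+ Ext.{w} X' Y' n :=
  AddMonoidHom.mk' (fun x => (Ext.mk₀ a).comp (x.comp (Ext.mk₀ b) (add_zero n)) (zero_add n))
    (by intro x y; simp)

lemma extConj_apply {X X' Y Y' : 𝒜} (a : X' ⟶ X) (b : Y ⟶ Y') (n : ℕ) (x : Ext.{w} X Y n) :
    extConj a b n x = (Ext.mk₀ a).comp (x.comp (Ext.mk₀ b) (add_zero n)) (zero_add n) := rfl

lemma extConj_extConj {X X' X'' Y Y' Y'' : 𝒜} (a : X' ⟶ X) (b : Y ⟶ Y') (a' : X'' ⟶ X')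
    (b' : Y' ⟶ Y'') (n : ℕ) (x : Ext.{w} X Y n) :
    extConj a' b' n (extConj a b n x) = extConj (a' ≫ a) (b ≫ b') n x := by
  simp only [extConj_apply]
  rw [Ext.comp_assoc_of_third_deg_zero, Ext.mk₀_comp_mk₀_assoc,
    Ext.comp_assoc_of_third_deg_zero, Ext.mk₀_comp_mk₀]

lemma extConj_id {X Y : 𝒜} (n : ℕ) (x : Ext.{w} X Y n) : extConj (𝟙 X) (𝟙 Y) n x = x := by
  simp [extConj_apply]

lemma mapExactFunctor_extConj {X X' Y Y' : 𝒜} (a : X' ⟶ X) (b : Y ⟶ Y') (n : ℕ)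
    (x : Ext.{w} X Y n) :
    (extConj a b n x).mapExactFunctor Φ = extConj (Φ.map a) (Φ.map b) n (x.mapExactFunctor Φ) := by
  simp only [extConj_apply, Ext.mapExactFunctor_comp, Ext.mapExactFunctor_mk₀]

/-- The inclusion `Ext^n(Z, G) → Ext^n(Z', G')`. -/
noncomputable def extIncl {Z G : 𝒜} {Z' G' : ℬ} (eZ : Φ.obj Z ≅ Z') (eG : Φ.obj G ≅ G') (n : ℕ) :
    Ext.{w} Z G n →+ Ext.{w'} Z' G' n :=
  (extConj eZ.inv eG.hom n).comp (Φ.mapExtAddHom Z G n)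

/-- The retraction `Ext^n(Z', G') → Ext^n(Z, G)`. -/
noncomputable def extRetr {Z G : 𝒜} {Z' G' : ℬ} (eZ : Φ.obj Z ≅ Z') (eG : Φ.obj G ≅ G') (n : ℕ) :
    Ext.{w'} Z' G' n →+ Ext.{w} Z G n :=
  (extConj (e.inv.app Z ≫ Ψ.map eZ.hom) (Ψ.map eG.inv ≫ e.hom.app G) n).comp
    (Ψ.mapExtAddHom Z' G' n)

include e in
lemma extRetr_extIncl {Z G : 𝒜} {Z' G' : ℬ} (eZ : Φ.obj Z ≅ Z') (eG : Φ.obj G ≅ G') (n : ℕ)
    (x : Ext.{w} Z G n) : extRetr Φ Ψ e eZ eG n (extIncl Φ eZ eG n x) = x := by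
  simp only [extRetr, extIncl, AddMonoidHom.comp_apply, Functor.mapExtAddHom_apply]
  rw [mapExactFunctor_extConj, extConj_extConj]
  haveI : PreservesFiniteLimits (Φ ⋙ Ψ) := comp_preservesFiniteLimits Φ Ψ
  haveI : PreservesFiniteColimits (Φ ⋙ Ψ) := comp_preservesFiniteColimits Φ Ψ
  have h1 : (e.inv.app Z ≫ Ψ.map eZ.hom) ≫ Ψ.map eZ.inv = e.inv.app Z := by
    rw [Category.assoc, ← Ψ.map_comp, Iso.hom_inv_id, Ψ.map_id]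
    exact Category.comp_id _
  have h2 : Ψ.map eG.hom ≫ Ψ.map eG.inv ≫ e.hom.app G = e.hom.app G := by
    rw [← Category.assoc, ← Ψ.map_comp, Iso.hom_inv_id, Ψ.map_id]
    exact Category.id_comp _
  rw [h1, h2, ← mapExactFunctor_comp_functor Φ Ψ x, extConj_apply,
    mapExactFunctor_naturality e.hom x, mapExactFunctor_id, Ext.mk₀_comp_mk₀_assoc]
  have h3 : e.inv.app Z ≫ e.hom.app Z = 𝟙 _ := e.inv_hom_id_app Z
  rw [h3]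
  exact Ext.mk₀_id_comp x

end Groth.Agent.Lib.Helper36.DescSS
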