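import Mathlib.CategoryTheory.Sites.Pullback
import Mathlib.CategoryTheory.Sites.ConstantSheaf
import Mathlib.CategoryTheory.Adjunction.Unique

/-!
# Generalities on pullbacks of sheaves along continuous functors

* `pullPullIso`: if `u ⋙ v ≅ 𝟭`, then `u^* ⋙ v^* ≅ 𝟭` on sheaves.
* `pullConstIso`: if `u` sends a terminal object to a terminal object, the pullback of a constant
  sheaf is the constant sheaf.
-/

universe v₁ v₂ v₃ u₁ u₂ u₃

open CategoryTheory Limits Opposite

namespace Groth.Agent.Lib.Helper36.DescSS

variable {C : Type u₂} [Category.{v₂} C] {D : Type u₃} [Category.{v₃} D]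
  (J : GrothendieckTopology C) (K : GrothendieckTopology D) (A : Type u₁) [Category.{v₁} A]

section pullPull

variable (u : D ⥤ C) (v : C ⥤ D) [u.IsContinuous K J] [v.IsContinuous J K]
  [(u.sheafPushforwardContinuous A K J).IsRightAdjoint]
  [(v.sheafPushforwardContinuous A J K).IsRightAdjoint]
  (e : u ⋙ v ≅ 𝟭 D)

/-- If `u ⋙ v ≅ 𝟭`, then the composite of the pushforwards is the identity. -/
noncomputable def pushPushIso :
    v.sheafPushforwardContinuous A J K ⋙ u.sheafPushforwardContinuous A K J ≅ 𝟭 (Sheaf K A) :=
  Functor.sheafPushforwardContinuousComp' e A K J K ≪≫ Functor.sheafPushforwardContinuousId A K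

/-- If `u ⋙ v ≅ 𝟭`, then the composite of the pullbacks is the identity. -/
noncomputable def pullPullIso :
    u.sheafPullback A K J ⋙ v.sheafPullback A J K ≅ 𝟭 (Sheaf K A) :=
  Adjunction.leftAdjointUniq
    (((u.sheafAdjunctionContinuous A K J).comp (v.sheafAdjunctionContinuous A J K)).ofNatIsoRight
      (pushPushIso J K A u v e))
    Adjunction.id

end pullPull

section pullComp

variable {E : Type*} [Category E] (L : GrothendieckTopology E)
  (u : D ⥤ C) (v : E ⥤ D) (w : E ⥤ C) [u.IsContinuous K J] [v.IsContinuous L K]
  [w.IsContinuous L J]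
  [(u.sheafPushforwardContinuous A K J).IsRightAdjoint]
  [(v.sheafPushforwardContinuous A L K).IsRightAdjoint]
  [(w.sheafPushforwardContinuous A L J).IsRightAdjoint]
  (e : v ⋙ u ≅ w)

/-- Pullbacks compose. -/
noncomputable def pullCompIso :
    v.sheafPullback A L K ⋙ u.sheafPullback A K J ≅ w.sheafPullback A L J :=
  Adjunction.leftAdjointUniq
    (((v.sheafAdjunctionContinuous A L K).comp (u.sheafAdjunctionContinuous A K J)).ofNatIsoRight
      (Functor.sheafPushforwardContinuousComp' e A L K J))
    (w.sheafAdjunctionContinuous A L J)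

end pullComp

section const

variable (u : D ⥤ C) [u.IsContinuous K J]
  [(u.sheafPushforwardContinuous A K J).IsRightAdjoint]
  [HasWeakSheafify J A] [HasWeakSheafify K A]
  {T : D} (hT : IsTerminal T) (hT' : IsTerminal (u.obj T))

/-- The pullback of a constant sheaf is constant. -/
noncomputable def pullConstIso :
    constantSheaf K A ⋙ u.sheafPullback A K J ≅ constantSheaf J A :=
  Adjunction.leftAdjointUniq
    (((constantSheafAdj K A hT).comp (u.sheafAdjunctionContinuous A K J)).ofNatIsoRight
      (Iso.refl _ : u.sheafPushforwardContinuous A K J ⋙ (sheafSections K A).obj (op T) ≅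
        (sheafSections J A).obj (op (u.obj T))))
    (constantSheafAdj J A hT')

end const

end Groth.Agent.Lib.Helper36.DescSS
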