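import Groth.Prelude.Def_CohTop
import Groth.Agent.S0904
import Groth.Agent.Lib.Helper36.DescSS.SitePull
import Groth.Agent.Lib.Helper36.DescSS.ExtRetract

/-!
# Cohomology of a retract of topological spaces

If `g : Z ⟶ W` has a section `h`, then `H^n(W, G)` is a direct summand of `H^n(Z, g^* G)`.
-/

universe u

open CategoryTheory Limits TopologicalSpace Opposite

namespace Groth.Agent.Lib.Helper36.DescSS

variable {Z W : TopCat.{u}} (g : Z ⟶ W)

instance : PreservesFiniteLimits (CohTop.pull g) := Groth.Agent.S0904.preservesFiniteLimits_pull g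

instance : PreservesFiniteColimits (CohTop.pull g) :=
  have : PreservesColimitsOfSize.{0, 0} (CohTop.pull g) :=
    (TopCat.Sheaf.pullbackPushforwardAdjunction AddCommGrpCat.{u} g).leftAdjoint_preservesColimits
  PreservesColimitsOfSize.preservesFiniteColimits _

instance : (CohTop.pull g).Additive :=
  (show CohTop.pull g ⊣ CohTop.push g from
    TopCat.Sheaf.pullbackPushforwardAdjunction AddCommGrpCat.{u} g).left_adjoint_additive

/-- `g^* ⋙ h^* ≅ 𝟭` when `h ≫ g = 𝟙`. -/
noncomputable def topPullPullIso (h : W ⟶ Z) (hs : h ≫ g = 𝟙 W) :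
    CohTop.pull g ⋙ CohTop.pull h ≅ 𝟭 (CohTop.Ab W) :=
  pullPullIso (Opens.grothendieckTopology Z) (Opens.grothendieckTopology W) AddCommGrpCat.{u}
    (Opens.map g) (Opens.map h) (eqToIso (by rw [← Opens.map_comp_eq, hs, Opens.map_id_eq]))

/-- The pullback of a constant sheaf is constant. -/
noncomputable def topPullConstIso :
    constantSheaf (Opens.grothendieckTopology W) AddCommGrpCat.{u} ⋙ CohTop.pull g ≅
      constantSheaf (Opens.grothendieckTopology Z) AddCommGrpCat.{u} :=
  pullConstIso (Opens.grothendieckTopology Z) (Opens.grothendieckTopology W) AddCommGrpCat.{u}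
    (Opens.map g) (T := ⊤) isTerminalTop (by
      have : (Opens.map g).obj ⊤ = ⊤ := rfl
      rw [this]; exact isTerminalTop)

/-- `H^n(W, G)` is a retract of `H^n(Z, G')` when `g : Z ⟶ W` has a section and `G' ≅ g^* G`. -/
theorem exists_top_retract (h : W ⟶ Z) (hs : h ≫ g = 𝟙 W) (G : CohTop.Ab W) (G' : CohTop.Ab Z)
    (eG : (CohTop.pull g).obj G ≅ G') (n : ℕ) :
    ∃ (i : AddCommGrpCat.of (CohTop.H G n) ⟶ AddCommGrpCat.of (CohTop.H G' n))
      (r : AddCommGrpCat.of (CohTop.H G' n) ⟶ AddCommGrpCat.of (CohTop.H G n)), i ≫ r = 𝟙 _ := by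
  let eZ := (topPullConstIso g).app (AddCommGrpCat.of (ULift ℤ))
  refine ⟨AddCommGrpCat.ofHom (extIncl (CohTop.pull g) eZ eG n),
    AddCommGrpCat.ofHom (extRetr (CohTop.pull g) (CohTop.pull h) (topPullPullIso g h hs) eZ eG n), ?_⟩
  ext x
  exact extRetr_extIncl (CohTop.pull g) (CohTop.pull h) (topPullPullIso g h hs) eZ eG n x

end Groth.Agent.Lib.Helper36.DescSS
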