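import Groth.Agent.Lib.Helper36.DescSS.RetractCx
import Mathlib.Order.Interval.Finset.Defs
import Mathlib.Data.Int.Interval

/-!
# The degenerate spectral sequence of a family of chains of retracts
-/

universe v u

open CategoryTheory CategoryTheory.Limits

namespace Groth.Agent.Lib.Helper36.DescSS

variable {C : Type u} [Category.{v} C] [Abelian C]

namespace Chain

variable (T : Chain C)

/-- The complex of a chain of retracts, extended by zero to `ℤ`. -/
noncomputable def cxZ : CochainComplex C ℤ := T.cx.extend ComplexShape.embeddingUpNat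

noncomputable def cxZHomologyZeroIso : T.cxZ.homology 0 ≅ T.B :=
  T.cx.extendHomologyIso ComplexShape.embeddingUpNat (j := 0) (j' := 0) (by simp) ≪≫
    T.cxHomologyZeroIso

lemma isZero_cxZ_homology (p : ℤ) (hp : p ≠ 0) : IsZero (T.cxZ.homology p) := by
  rw [← HomologicalComplex.exactAt_iff_isZero_homology]
  by_cases h : 0 ≤ p
  · obtain ⟨n, rfl⟩ := Int.eq_ofNat_of_zero_le h
    obtain ⟨m, rfl⟩ : ∃ m, n = m + 1 :=
      Nat.exists_eq_succ_of_ne_zero (by intro h0; apply hp; simp [h0])
    rw [cxZ, HomologicalComplex.extend_exactAt_iff T.cx ComplexShape.embeddingUpNat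
      (j := m + 1) (by simp)]
    exact T.cx_exactAt m
  · exact T.cx.extend_exactAt _ _ (fun j hj => h (by rw [← hj]; simp))

noncomputable def cxZXIso (p : ℕ) : T.cxZ.X p ≅ T.A p :=
  T.cx.extendXIso ComplexShape.embeddingUpNat (by simp)

lemma isZero_cxZ_X (p : ℤ) (hp : p < 0) : IsZero (T.cxZ.X p) :=
  T.cx.isZero_extend_X _ _ (fun j hj => by simp at hj; lia)

end Chain

/-- The constant chain. -/
def constChain (O : C) : Chain C where
  B := O
  A _ := O
  i₀ := 𝟙 O
  r₀ := 𝟙 O
  h₀ := Category.comp_id _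
  i _ := 𝟙 O
  r _ := 𝟙 O
  h _ := Category.comp_id _

/-- The degenerate spectral sequence of a family of chains of retracts, in existence form. -/
theorem exists_ss_of_chains (T : ℕ → Chain C) (O : C) (hO : IsZero O) :
    ∃ (E : CohomologicalSpectralSequence C 1)
      (a : SpSeq.Abutment E (fun n : ℤ => if 0 ≤ n then (T n.toNat).B else O)),
      (∀ n, a.IsFinite n) ∧ SpSeq.IsBounded E ∧
      ∀ p q : ℤ, Nonempty ((E.page 1 le_rfl).X (p, q) ≅
        (if 0 ≤ p ∧ 0 ≤ q then (T q.toNat).A p.toNat else O)) := by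
  let T' : ℤ → Chain C := fun q => if 0 ≤ q then T q.toNat else constChain O
  have hX : ∀ p q : ℤ, Nonempty (((T' q).cxZ).X p ≅
      (if 0 ≤ p ∧ 0 ≤ q then (T q.toNat).A p.toNat else O)) := by
    intro p q
    by_cases hp : 0 ≤ p
    · obtain ⟨n, rfl⟩ := Int.eq_ofNat_of_zero_le hp
      by_cases hq : 0 ≤ q
      · have h1 : T' q = T q.toNat := if_pos hq
        rw [h1, if_pos ⟨hp, hq⟩]
        exact ⟨(T q.toNat).cxZXIso n⟩
      · have h1 : T' q = constChain O := if_neg hq
        rw [h1, if_neg (fun h => hq h.2)]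
        exact ⟨(constChain O).cxZXIso n⟩
    · rw [if_neg (fun h => hp h.1)]
      exact ⟨((T' q).isZero_cxZ_X p (by lia)).iso hO⟩
  obtain ⟨E, a, ha, hE, hp⟩ := exists_ss (fun q => (T' q).cxZ)
    (fun n : ℤ => if 0 ≤ n then (T n.toNat).B else O)
    (fun q => by
      by_cases hq : 0 ≤ q
      · have h1 : T' q = T q.toNat := if_pos hq
        simp only [if_pos hq]
        rw [h1]
        exact ⟨(T q.toNat).cxZHomologyZeroIso⟩
      · have h1 : T' q = constChain O := if_neg hq
        simp only [if_neg hq]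
        rw [h1]
        exact ⟨(constChain O).cxZHomologyZeroIso⟩)
    (fun q p hp => (T' q).isZero_cxZ_homology p hp)
    (fun n => by
      refine Set.Finite.subset (Set.finite_Icc (0 : ℤ) n) ?_
      intro p hp
      simp only [Set.mem_setOf_eq] at hp
      by_contra hcon
      apply hp
      by_cases h0 : 0 ≤ p
      · have hq : ¬ 0 ≤ n - p := by
          intro h; apply hcon; exact ⟨h0, by lia⟩
        obtain ⟨e⟩ := hX p (n - p)
        rw [if_neg (fun h => hq h.2)] at e
        exact hO.of_iso e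
      · exact (T' (n - p)).isZero_cxZ_X p (by lia))
  refine ⟨E, a, ha, hE, fun p q => ?_⟩
  obtain ⟨e1⟩ := hp p q
  obtain ⟨e2⟩ := hX p q
  exact ⟨e1 ≪≫ e2⟩

end Groth.Agent.Lib.Helper36.DescSS
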