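import Groth.Prelude.Def_EtCore
import Groth.Agent.Lib.Helper6.EtPullExact
import Groth.Agent.Lib.Helper36.DescSS.SitePull
import Groth.Agent.Lib.Helper36.DescSS.ExtRetract

/-!
# Etale cohomology of a retract of schemes

If `g : Z ⟶ W` has a section `h`, then `H^n(W_et, G)` is a direct summand of `H^n(Z_et, g^* G)`.
-/

universe u

open CategoryTheory Limits AlgebraicGeometry Opposite

namespace Groth.Agent.Lib.Helper36.DescSS

variable {Z W : Scheme.{u}} (g : Z ⟶ W)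

instance : PreservesFiniteLimits (EtCoh.pull g) := Groth.Agent.Lib.Helper6.EtPullExact.preservesFiniteLimits_pull g

/-- Base change along the identity is the identity. -/
noncomputable def bcId (W : Scheme.{u}) : EtCoh.bc (𝟙 W) ≅ 𝟭 W.Etale :=
  Adjunction.rightAdjointUniq
    (MorphismProperty.Over.mapPullbackAdj EtCoh.etaleMP.{u} ⊤ (𝟙 W)
      (inferInstance : Etale (𝟙 W)) trivial)
    (Adjunction.id.ofNatIsoLeft (MorphismProperty.Over.mapId (P := EtCoh.etaleMP.{u}) ⊤ W).symm)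

/-- `bc g ⋙ bc h ≅ 𝟭` when `h ≫ g = 𝟙`. -/
noncomputable def bcBcIso (h : W ⟶ Z) (hs : h ≫ g = 𝟙 W) : EtCoh.bc g ⋙ EtCoh.bc h ≅ 𝟭 W.Etale :=
  (MorphismProperty.Over.pullbackComp (P := EtCoh.etaleMP.{u}) (Q := ⊤) h g).symm ≪≫
    MorphismProperty.Over.pullbackCongr (P := EtCoh.etaleMP.{u}) (Q := ⊤) hs ≪≫ bcId W

/-- `g^* ⋙ h^* ≅ 𝟭` when `h ≫ g = 𝟙`. -/
noncomputable def etPullPullIso (h : W ⟶ Z) (hs : h ≫ g = 𝟙 W) :
    EtCoh.pull g ⋙ EtCoh.pull h ≅ 𝟭 (EtCoh.Ab W) :=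
  pullPullIso Z.smallEtaleTopology W.smallEtaleTopology AddCommGrpCat.{u + 1}
    (EtCoh.bc g) (EtCoh.bc h) (bcBcIso g h hs)

/-- `H^n(W_et, G)` is a retract of `H^n(Z_et, G')` when `g : Z ⟶ W` has a section and
`G' ≅ g^* G`. -/
theorem exists_et_retract (h : W ⟶ Z) (hs : h ≫ g = 𝟙 W) (G : EtCoh.Ab W) (G' : EtCoh.Ab Z)
    (eG : (EtCoh.pull g).obj G ≅ G') (n : ℕ) :
    ∃ (i : AddCommGrpCat.of (EtCoh.H W G n) ⟶ AddCommGrpCat.of (EtCoh.H Z G' n))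
      (r : AddCommGrpCat.of (EtCoh.H Z G' n) ⟶ AddCommGrpCat.of (EtCoh.H W G n)), i ≫ r = 𝟙 _ := by
  let eZ := (EtCore.pullConstIso g).app (AddCommGrpCat.of (ULift.{u + 1} ℤ))
  refine ⟨AddCommGrpCat.ofHom (extIncl (EtCoh.pull g) eZ eG n),
    AddCommGrpCat.ofHom (extRetr (EtCoh.pull g) (EtCoh.pull h) (etPullPullIso g h hs) eZ eG n), ?_⟩
  ext x
  exact extRetr_extIncl (EtCoh.pull g) (EtCoh.pull h) (etPullPullIso g h hs) eZ eG n x

end Groth.Agent.Lib.Helper36.DescSS
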