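import Groth.Agent.Lib.Helper36.DescSS.DegSS
import Mathlib.Algebra.Homology.Embedding.ExtendHomology
import Mathlib.Algebra.Homology.Refinements

/-!
# The acyclic complex attached to a chain of retracts

Let `B ⊆ A 0 ⊆ A 1 ⊆ ...` be a chain of retracts in an abelian category (`A (p - 1)` is a direct
summand of `A p`, with `A (-1) = B`). Then there are decompositions `A p = Z p ⊕ Z (p + 1)` with
`Z 0 = B`, and the differentials `A p → Z (p + 1) → A (p + 1)` make `A` into a cochain complex whose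
cohomology is `B` in degree `0` and zero in positive degrees.
-/

universe v u

open CategoryTheory CategoryTheory.Limits

namespace Groth.Agent.Lib.Helper36.DescSS

variable {C : Type u} [Category.{v} C] [Abelian C]

section retract

variable {X Y : C} (i : Y ⟶ X) (r : X ⟶ Y) (h : i ≫ r = 𝟙 Y)

/-- The projection onto the complement `ker r` of a retract. -/
noncomputable def retractSnd : X ⟶ kernel r :=
  kernel.lift r (𝟙 X - r ≫ i) (by simp [Preadditive.sub_comp, h])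

@[reassoc]
lemma retractSnd_ι : retractSnd i r h ≫ kernel.ι r = 𝟙 X - r ≫ i := by simp [retractSnd]

@[reassoc]
lemma i_retractSnd : i ≫ retractSnd i r h = 0 := by
  rw [← cancel_mono (kernel.ι r)]
  simp [retractSnd_ι, Preadditive.comp_sub, reassoc_of% h]

@[reassoc]
lemma ι_retractSnd : kernel.ι r ≫ retractSnd i r h = 𝟙 _ := by
  rw [← cancel_mono (kernel.ι r)]
  simp [retractSnd_ι, Preadditive.comp_sub]

lemma retract_total : r ≫ i + retractSnd i r h ≫ kernel.ι r = 𝟙 X := by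
  rw [retractSnd_ι]; abel

end retract

/-- A direct sum decomposition `X = Z ⊕ Z'`. -/
structure Dec (X : C) where
  Z : C
  Z' : C
  inl : Z ⟶ X
  inr : Z' ⟶ X
  fst : X ⟶ Z
  snd : X ⟶ Z'
  inl_fst : inl ≫ fst = 𝟙 Z
  inr_snd : inr ≫ snd = 𝟙 Z'
  inl_snd : inl ≫ snd = 0
  inr_fst : inr ≫ fst = 0
  total : fst ≫ inl + snd ≫ inr = 𝟙 X

attribute [reassoc (attr := simp)] Dec.inl_fst Dec.inr_snd Dec.inl_snd Dec.inr_fst

/-- The decomposition `X = Y ⊕ ker r` attached to a retract. -/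
noncomputable def Dec.ofRetract {X Y : C} (i : Y ⟶ X) (r : X ⟶ Y) (h : i ≫ r = 𝟙 Y) : Dec X where
  Z := Y
  Z' := kernel r
  inl := i
  inr := kernel.ι r
  fst := r
  snd := retractSnd i r h
  inl_fst := h
  inr_snd := ι_retractSnd i r h
  inl_snd := i_retractSnd i r h
  inr_fst := kernel.condition r
  total := retract_total i r h

/-- From `Y = Z ⊕ Z'` and a retract `Y ⊆ X`, the decomposition `X = Z' ⊕ (Z ⊕ ker r)`. -/
noncomputable def Dec.next {X Y : C} (D : Dec Y) (i : Y ⟶ X) (r : X ⟶ Y) (h : i ≫ r = 𝟙 Y) :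
    Dec X where
  Z := D.Z'
  Z' := D.Z ⊞ kernel r
  inl := D.inr ≫ i
  inr := biprod.desc (D.inl ≫ i) (kernel.ι r)
  fst := r ≫ D.snd
  snd := biprod.lift (r ≫ D.fst) (retractSnd i r h)
  inl_fst := by simp [reassoc_of% h]
  inr_snd := by
    apply biprod.hom_ext' <;> apply biprod.hom_ext <;>
      simp [reassoc_of% h, i_retractSnd, ι_retractSnd]
  inl_snd := by
    apply biprod.hom_ext <;> simp [reassoc_of% h, i_retractSnd]
  inr_fst := by
    apply biprod.hom_ext' <;> simp [reassoc_of% h]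
  total := by
    have hD' : D.snd ≫ D.inr ≫ i + D.fst ≫ D.inl ≫ i = i := by
      rw [← Category.assoc, ← Category.assoc D.fst, ← Preadditive.add_comp, add_comm, D.total,
        Category.id_comp]
    have key : r ≫ D.snd ≫ D.inr ≫ i + r ≫ D.fst ≫ D.inl ≫ i = r ≫ i := by
      rw [← Preadditive.comp_add, hD']
    simp only [biprod.lift_desc, Category.assoc]
    rw [← add_assoc, key]
    exact retract_total i r h

/-- A chain of retracts `B ⊆ A 0 ⊆ A 1 ⊆ ...`. -/
structure Chain (C : Type u) [Category.{v} C] where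
  B : C
  A : ℕ → C
  i₀ : B ⟶ A 0
  r₀ : A 0 ⟶ B
  h₀ : i₀ ≫ r₀ = 𝟙 B
  i : ∀ p, A p ⟶ A (p + 1)
  r : ∀ p, A (p + 1) ⟶ A p
  h : ∀ p, i p ≫ r p = 𝟙 (A p)

namespace Chain

variable (T : Chain C)

/-- The decompositions `A p = Z p ⊕ Z (p + 1)`. -/
noncomputable def stage : ∀ p : ℕ, Dec (T.A p)
  | 0 => Dec.ofRetract T.i₀ T.r₀ T.h₀
  | p + 1 => (stage p).next (T.i p) (T.r p) (T.h p)

/-- The differential. -/
noncomputable def d (p : ℕ) : T.A p ⟶ T.A (p + 1) := (T.stage p).snd ≫ (T.stage p).inr ≫ T.i p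

/-- The contracting homotopy. -/
noncomputable def s (p : ℕ) : T.A (p + 1) ⟶ T.A p := T.r p ≫ (T.stage p).snd ≫ (T.stage p).inr

lemma inr_i_snd (p : ℕ) : ((T.stage p).inr ≫ T.i p) ≫ (T.stage (p + 1)).snd = 0 :=
  (T.stage (p + 1)).inl_snd

lemma fst_inl_succ (p : ℕ) : (T.r p ≫ (T.stage p).snd) ≫ (T.stage p).inr ≫ T.i p +
    (T.stage (p + 1)).snd ≫ (T.stage (p + 1)).inr = 𝟙 (T.A (p + 1)) :=
  (T.stage (p + 1)).total

lemma fst_inl_zero : T.r₀ ≫ T.i₀ + (T.stage 0).snd ≫ (T.stage 0).inr = 𝟙 (T.A 0) :=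
  (T.stage 0).total

lemma i₀_snd : T.i₀ ≫ (T.stage 0).snd = 0 := (T.stage 0).inl_snd

lemma d_comp_d (p : ℕ) : T.d p ≫ T.d (p + 1) = 0 := by
  have h := T.inr_i_snd p
  simp only [Category.assoc] at h
  simp only [d, Category.assoc]
  rw [reassoc_of% h]
  simp

lemma s_d_add_d_s (p : ℕ) : T.s p ≫ T.d p + T.d (p + 1) ≫ T.s (p + 1) = 𝟙 (T.A (p + 1)) := by
  have ht := T.fst_inl_succ p
  rw [← ht]
  simp only [s, d, Category.assoc, Dec.inr_snd_assoc]
  rw [reassoc_of% (T.h (p + 1))]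
  simp

/-- The cochain complex attached to a chain of retracts. -/
noncomputable def cx : CochainComplex C ℕ := CochainComplex.of T.A T.d T.d_comp_d

@[simp] lemma cx_X (p : ℕ) : T.cx.X p = T.A p := rfl

lemma cx_d (p : ℕ) : T.cx.d p (p + 1) = T.d p := CochainComplex.of_d _ _ _

lemma exact_of_contraction (S : ShortComplex C) (h₁ : S.X₂ ⟶ S.X₁) (h₂ : S.X₃ ⟶ S.X₂)
    (h : h₁ ≫ S.f + S.g ≫ h₂ = 𝟙 _) : S.Exact := by
  rw [ShortComplex.exact_iff_exact_up_to_refinements]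
  intro A' x₂ hx₂
  refine ⟨A', 𝟙 _, inferInstance, x₂ ≫ h₁, ?_⟩
  calc 𝟙 _ ≫ x₂ = x₂ ≫ 𝟙 _ := by simp
    _ = x₂ ≫ (h₁ ≫ S.f + S.g ≫ h₂) := by rw [h]
    _ = (x₂ ≫ h₁) ≫ S.f := by simp [Preadditive.comp_add, reassoc_of% hx₂]

lemma cx_exactAt (p : ℕ) : T.cx.ExactAt (p + 1) := by
  rw [HomologicalComplex.exactAt_iff' T.cx p (p + 1) (p + 2) (by simp) (by simp)]
  refine exact_of_contraction _ (T.s p) (T.s (p + 1)) ?_
  have h1 : (T.cx.sc' p (p + 1) (p + 2)).f = T.d p := T.cx_d p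
  have h2 : (T.cx.sc' p (p + 1) (p + 2)).g = T.d (p + 1) := T.cx_d (p + 1)
  rw [h1, h2]
  exact T.s_d_add_d_s p

lemma i₀_d : T.i₀ ≫ T.d 0 = 0 := by
  simp [d, reassoc_of% T.i₀_snd]

/-- `B` is the kernel of the first differential. -/
noncomputable def isLimitKernelFork : IsLimit (KernelFork.ofι (f := T.d 0) T.i₀ T.i₀_d) :=
  KernelFork.IsLimit.ofι _ _ (fun x _ => x ≫ T.r₀)
    (fun x hx => by
      have h1 : x ≫ (T.stage 0).snd = 0 := by
        have h2 := hx =≫ (T.r 0 ≫ (T.stage 0).snd)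
        simp only [d, Category.assoc, zero_comp] at h2
        rw [reassoc_of% (T.h 0)] at h2
        simpa using h2
      calc (x ≫ T.r₀) ≫ T.i₀ = x ≫ (T.r₀ ≫ T.i₀ + (T.stage 0).snd ≫ (T.stage 0).inr) := by
            simp [Preadditive.comp_add, reassoc_of% h1]
        _ = x ≫ 𝟙 _ := congrArg (x ≫ ·) T.fst_inl_zero
        _ = x := Category.comp_id _)
    (fun x _ m hm => by
      rw [← hm, Category.assoc, T.h₀, Category.comp_id])

lemma i₀_cx_d : T.i₀ ≫ T.cx.d 0 1 = 0 := by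
  rw [T.cx_d 0]; exact T.i₀_d

/-- Transport of a kernel along an equality of morphisms. -/
noncomputable def isLimitKernelForkOfEq {X Y K : C} {f f' : X ⟶ Y} (h : f = f') (ι : K ⟶ X)
    (w : ι ≫ f = 0) (w' : ι ≫ f' = 0) (hl : IsLimit (KernelFork.ofι ι w)) :
    IsLimit (KernelFork.ofι ι w') := by
  subst h; exact hl

/-- `B` is the kernel of the first differential of the complex. -/
noncomputable def isLimitKernelFork' : IsLimit (KernelFork.ofι (f := T.cx.d 0 1) T.i₀ T.i₀_cx_d) :=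
  isLimitKernelForkOfEq (T.cx_d 0).symm T.i₀ T.i₀_d T.i₀_cx_d T.isLimitKernelFork

/-- The cohomology in degree `0` is `B`. -/
noncomputable def cxHomologyZeroIso : T.cx.homology 0 ≅ T.B :=
  T.cx.isoHomologyπ₀.symm ≪≫
    IsLimit.conePointUniqueUpToIso (T.cx.cyclesIsKernel 0 1 (by simp)) T.isLimitKernelFork'

end Chain

end Groth.Agent.Lib.Helper36.DescSS
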