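import Mathlib.CategoryTheory.Limits.Shapes.WidePullbacks
import Mathlib.Data.Fin.Basic
import Mathlib.Data.Fin.Tuple.Basic

/-!
# Iterated fibre powers of a morphism with a section

For `f : X ⟶ S` with a section `s`, the projection `X_{p+1} ⟶ X_p` between fibre powers (and
`X_0 ⟶ S`) has a section.
-/

universe v u

open CategoryTheory Limits

namespace Groth.Agent.Lib.Helper36.DescSS

variable {𝒞 : Type u} [Category.{v} 𝒞] {X S : 𝒞} (f : X ⟶ S) (s : S ⟶ X) (hs : s ≫ f = 𝟙 S)
  [∀ p : ℕ, HasWidePullback S (fun _ : Fin (p + 1) => X) (fun _ => f)]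

/-- The `(p+1)`-fold fibre power. -/
noncomputable abbrev fibPow (p : ℕ) : 𝒞 := widePullback S (fun _ : Fin (p + 1) => X) (fun _ => f)

/-- The structure map of the fibre power. -/
noncomputable abbrev fibBase (p : ℕ) : fibPow f p ⟶ S :=
  WidePullback.base (fun _ : Fin (p + 1) => f)

/-- The section of `X_0 ⟶ S`. -/
noncomputable def fibSec₀ : S ⟶ fibPow f 0 :=
  WidePullback.lift (𝟙 S) (fun _ => s) (fun _ => hs)

lemma fibSec₀_base : fibSec₀ f s hs ≫ fibBase f 0 = 𝟙 S :=
  WidePullback.lift_base _ _ _ _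

/-- The projection forgetting the last factor. -/
noncomputable def fibPr (p : ℕ) : fibPow f (p + 1) ⟶ fibPow f p :=
  WidePullback.lift (fibBase f (p + 1))
    (fun j : Fin (p + 1) => WidePullback.π (fun _ : Fin (p + 1 + 1) => f) j.castSucc)
    (fun j => WidePullback.π_arrow (fun _ : Fin (p + 1 + 1) => f) j.castSucc)

lemma fibPr_base (p : ℕ) : fibPr f p ≫ fibBase f p = fibBase f (p + 1) :=
  WidePullback.lift_base _ _ _ _

lemma fibPr_π (p : ℕ) (j : Fin (p + 1)) :
    fibPr f p ≫ WidePullback.π (fun _ : Fin (p + 1) => f) j =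
      WidePullback.π (fun _ : Fin (p + 1 + 1) => f) j.castSucc :=
  WidePullback.lift_π _ _ _ _ _

/-- The section of the projection given by `s` on the last factor. -/
noncomputable def fibSec (p : ℕ) : fibPow f p ⟶ fibPow f (p + 1) :=
  WidePullback.lift (fibBase f p)
    (fun j : Fin (p + 1 + 1) => Fin.lastCases (motive := fun _ => fibPow f p ⟶ X)
      (fibBase f p ≫ s) (fun j => WidePullback.π (fun _ : Fin (p + 1) => f) j) j)
    (fun j => by
      refine Fin.lastCases ?_ (fun j => ?_) j
      · simp [hs]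
      · simp)

lemma fibSec_base (p : ℕ) : fibSec f s hs p ≫ fibBase f (p + 1) = fibBase f p :=
  WidePullback.lift_base _ _ _ _

lemma fibSec_π_castSucc (p : ℕ) (j : Fin (p + 1)) :
    fibSec f s hs p ≫ WidePullback.π (fun _ : Fin (p + 1 + 1) => f) j.castSucc =
      WidePullback.π (fun _ : Fin (p + 1) => f) j := by
  refine (WidePullback.lift_π _ _ _ _ _).trans ?_
  simp

lemma fibSec_pr (p : ℕ) : fibSec f s hs p ≫ fibPr f p = 𝟙 _ := by
  apply WidePullback.hom_ext
  · intro j
    rw [Category.assoc, fibPr_π, fibSec_π_castSucc, Category.id_comp]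
  · rw [Category.assoc]
    refine (congrArg (fibSec f s hs p ≫ ·) (fibPr_base f p)).trans ?_
    rw [fibSec_base, Category.id_comp]

end Groth.Agent.Lib.Helper36.DescSS
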